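import Mathlib
import Cfsg.Prelude.Def_Blocks
import Cfsg.Agent.Blocks.Local
import Cfsg.Agent.Blocks.Basic
import Cfsg.Agent.Blocks.ClassSum
import Cfsg.Agent.Blocks.HeightZero
import Cfsg.Agent.Characters.Core
import Cfsg.Agent.CharactersDeep.ModCongr
set_option linter.all false

/-!
# Inner products over the p-regular elements of a subgroup

`innerReg`: for `H ≤ G`, `χ ∈ Irr(G)`, `ψ ∈ Irr(H)`, the number `[η, ψ]/ψ(1)` with `η` equal to
`p^a χ` on the `p`-regular elements of `H` (and `0` elsewhere) is a unit of the local ring times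
the value at the central character of `ψ` of the restriction to `H` of the central element
attached to `χ`.
-/

set_option autoImplicit false

open scoped ComplexConjugate

namespace Cfsg.Agent.H590.RegInner

open Cfsg Cfsg.Agent.Blocks Cfsg.Agent.Blocks.HeightZero

variable {G : Type*} [Group G]

/-- the inner product with `ψ` over the `p`-regular elements of `H`, through `h ↦ h⁻¹` -/
theorem sum_reg_eq [Finite G] (p : ℕ) (H : Subgroup G) [Fintype H] (χ : IrrCharacter G)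
    (ψ : IrrCharacter H) :
    ∑ h : H, (if p ∣ orderOf h then (0 : ℂ) else (χ : G → ℂ) h) * conj ((ψ : H → ℂ) h) =
      (ψ : H → ℂ) 1 * ∑ h : H, regCoeff p (χ : G → ℂ) (h : G) *
        ((ψ : H → ℂ) h / (ψ : H → ℂ) 1) := by
  have h1 := irr_apply_one_ne_zero ψ
  rw [Finset.mul_sum]
  refine Fintype.sum_equiv (Equiv.inv H) _ _ ?_
  intro h
  simp only [Equiv.inv_apply]
  have hord : orderOf ((h⁻¹ : H) : G) = orderOf h := by
    rw [Subgroup.orderOf_coe, orderOf_inv]
  by_cases hd : p ∣ orderOf h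
  · rw [if_pos hd, regCoeff_of_dvd _ (by rwa [hord]), zero_mul, zero_mul, mul_zero]
  · rw [if_neg hd, regCoeff_of_not_dvd _ (by rwa [hord]), Subgroup.coe_inv,
      Characters.Core.isCharacter_apply_inv (Characters.Core.isIrr_isCharacter χ.2),
      Characters.Core.isCharacter_apply_inv (Characters.Core.isIrr_isCharacter ψ.2),
      Complex.conj_conj]
    field_simp

/-- `p^a / #H` is a unit of the local ring. -/
theorem memLocalRing_ratio {p : ℕ} {M : Ideal AlgInt} (hM : IsPModular p M) [M.IsPrime]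
    (n : ℕ) (hn : n ≠ 0) :
    MemLocalRing M (((p ^ n.factorization p : ℕ) : ℂ) / (n : ℂ)) ∧
      ¬ MemLocalIdeal M (((p ^ n.factorization p : ℕ) : ℂ) / (n : ℂ)) := by
  have hp := hM.1
  have h1 : n = p ^ n.factorization p * (n / p ^ n.factorization p) :=
    (Nat.ordProj_mul_ordCompl_eq_self n p).symm
  have hnd : ¬ p ∣ n / p ^ n.factorization p := Nat.not_dvd_ordCompl hp hn
  have h2 : (((p ^ n.factorization p : ℕ) : ℂ) / (n : ℂ)) =
      (((n / p ^ n.factorization p : ℕ)) : ℂ)⁻¹ := by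
    have h3 : ((p ^ n.factorization p : ℕ) : ℂ) ≠ 0 := by
      exact_mod_cast pow_ne_zero _ hp.ne_zero
    have h4 : (n : ℂ) = ((p ^ n.factorization p : ℕ) : ℂ) *
        ((n / p ^ n.factorization p : ℕ) : ℂ) := by exact_mod_cast h1
    rw [h4, div_eq_mul_inv, mul_inv, ← mul_assoc, mul_inv_cancel₀ h3, one_mul]
  rw [h2]
  refine ⟨Local.memLocalRing_inv_natCast hM hnd, ?_⟩
  exact Local.not_memLocalIdeal_inv (Local.memLocalRing_natCast _)
    (fun h => hnd ((Local.memLocalIdeal_natCast_iff hM _).1 h))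

/-- The formula for `[η, ψ]/ψ(1)`. -/
theorem innerReg_eq [Finite G] (p : ℕ) (H : Subgroup G) [Fintype H] (χ : IrrCharacter G)
    (ψ : IrrCharacter H) :
    classInner (fun h : H => if p ∣ orderOf h then (0 : ℂ) else
        ((p ^ (Nat.card H).factorization p : ℕ) : ℂ) * (χ : G → ℂ) h) (ψ : H → ℂ) /
          (ψ : H → ℂ) 1 =
      (((p ^ (Nat.card H).factorization p : ℕ) : ℂ) / (Nat.card H : ℂ)) *
        ∑ h : H, regCoeff p (χ : G → ℂ) (h : G) * ((ψ : H → ℂ) h / (ψ : H → ℂ) 1) := by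
  have h1 := irr_apply_one_ne_zero ψ
  rw [Characters.Core.classInner_def]
  have h2 : ∑ h : H, (if p ∣ orderOf h then (0 : ℂ) else
        ((p ^ (Nat.card H).factorization p : ℕ) : ℂ) * (χ : G → ℂ) h) * conj ((ψ : H → ℂ) h) =
      ((p ^ (Nat.card H).factorization p : ℕ) : ℂ) *
        ∑ h : H, (if p ∣ orderOf h then (0 : ℂ) else (χ : G → ℂ) h) * conj ((ψ : H → ℂ) h) := by
    rw [Finset.mul_sum]
    refine Finset.sum_congr rfl fun h _ => ?_
    split_ifs <;> ring
  rw [h2, sum_reg_eq]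
  field_simp

/-- The main congruence. -/
theorem memLocalIdeal_sum_sub_regSum [Fintype G] {p : ℕ} {M : Ideal AlgInt} [M.IsPrime]
    (H : Subgroup G) [Fintype H] {b : Set (IrrCharacter H)} {B₀ : Set (IrrCharacter G)}
    (hind : IsInducedBlock M H b B₀) (χ : IrrCharacter G) {ψ : IrrCharacter H} (hψ : ψ ∈ b)
    {χ₀ : IrrCharacter G} (hχ₀ : χ₀ ∈ B₀) :
    MemLocalIdeal M (∑ h : H, regCoeff p (χ : G → ℂ) (h : G) *
        ((ψ : H → ℂ) h / (ψ : H → ℂ) 1) - regSum p (χ₀ : G → ℂ) (χ : G → ℂ)) :=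
  ClassSum.memLocalIdeal_of_induced H (irr_isClassFunction χ₀) (hind.2.2 ψ hψ χ₀ hχ₀)
    (isClassFunction_regCoeff (irr_isClassFunction χ))
    (memLocalRing_regCoeff (Characters.Core.isIrr_isCharacter χ.2))

/-- (a) -/
theorem memLocalIdeal_sum_of_notMem [Fintype G] {p : ℕ} [Fact p.Prime] {M : Ideal AlgInt}
    (hM : IsPModular p M) (H : Subgroup G) [Fintype H] {b : Set (IrrCharacter H)}
    {B₀ : Set (IrrCharacter G)} (hind : IsInducedBlock M H b B₀) (χ : IrrCharacter G)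
    {ψ : IrrCharacter H} (hψ : ψ ∈ b) (hχ : χ ∉ B₀) :
    MemLocalIdeal M (∑ h : H, regCoeff p (χ : G → ℂ) (h : G) *
        ((ψ : H → ℂ) h / (ψ : H → ℂ) 1)) := by
  have hMp : M.IsPrime := Local.isPrime_of_isPModular hM
  obtain ⟨χ₀, hχ₀⟩ := Basic.isPBlock_nonempty hind.2.1
  have h1 := memLocalIdeal_sum_sub_regSum (p := p) H hind χ hψ hχ₀
  rw [regSum_eq_zero hM χ₀ χ, sub_zero] at h1
  · exact h1
  · intro hs
    exact hχ (Basic.isPBlock_mem_of_sameBlock hind.2.1 hχ₀ hs)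

/-- (b) -/
theorem not_memLocalIdeal_sum_of_mem [Fintype G] {p : ℕ} [Fact p.Prime] {M : Ideal AlgInt}
    (hM : IsPModular p M) (H : Subgroup G) [Fintype H] {b : Set (IrrCharacter H)}
    {B₀ : Set (IrrCharacter G)} (hind : IsInducedBlock M H b B₀) (χ : IrrCharacter G)
    {ψ : IrrCharacter H} (hψ : ψ ∈ b) (hχ : χ ∈ B₀)
    (h0 : blockHeight p B₀ (χ : G → ℂ) = 0) :
    ¬ MemLocalIdeal M (∑ h : H, regCoeff p (χ : G → ℂ) (h : G) *
        ((ψ : H → ℂ) h / (ψ : H → ℂ) 1)) := by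
  have hMp : M.IsPrime := Local.isPrime_of_isPModular hM
  have h1 := memLocalIdeal_sum_sub_regSum (p := p) H hind χ hψ hχ
  rw [Local.memLocalIdeal_iff_of_sub h1]
  have hB := Basic.isPBlock_eq_blockOf hind.2.1 hχ
  rw [hB] at h0
  exact not_memLocalIdeal_regSum hM χ χ h0 (Basic.sameBlock_refl _)

end Cfsg.Agent.H590.RegInner
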