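import Mathlib
import Cfsg.Prelude.Def_Blocks
import Cfsg.Agent.Blocks.Local
import Cfsg.Agent.Blocks.Basic
import Cfsg.Agent.Blocks.CliffordCentral
import Cfsg.Agent.Blocks.Osima
import Cfsg.Agent.Characters.Core
import Cfsg.Agent.H590.RegInner
import Cfsg.Agent.S0909
import Cfsg.Agent.S0952
set_option linter.all false

/-!
# The characters of a normal subgroup lying under a block

For a block `B` of `G` and `N` normal in `G` the set `under N B` of irreducible characters of `N`
lying under a member of `B` is a union of blocks of `N`.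
-/

set_option autoImplicit false
set_option linter.unusedSectionVars false

open scoped ComplexConjugate

namespace Cfsg.Agent.H590.CoverLies

open Cfsg Cfsg.Agent.Blocks Cfsg.Agent.Characters

section reg

variable {H : Type*} [Group H]

/-- the restriction to the `p`-regular elements -/
noncomputable def reg (p : ℕ) (F : H → ℂ) : H → ℂ :=
  fun n => if p ∣ orderOf n then 0 else F n

theorem reg_of_dvd {p : ℕ} (F : H → ℂ) {n : H} (h : p ∣ orderOf n) : reg p F n = 0 := by
  simp [reg, h]

theorem reg_of_not_dvd {p : ℕ} (F : H → ℂ) {n : H} (h : ¬ p ∣ orderOf n) :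
    reg p F n = F n := by
  simp [reg, h]

theorem reg_add (p : ℕ) (F F' : H → ℂ) : reg p (F + F') = reg p F + reg p F' := by
  funext n
  by_cases h : p ∣ orderOf n
  · simp [reg_of_dvd _ h]
  · simp [reg_of_not_dvd _ h]

theorem isClassFunction_reg (p : ℕ) {F : H → ℂ} (hF : IsClassFunction H F) :
    IsClassFunction H (reg p F) := by
  intro g h
  have ho : orderOf (h * g * h⁻¹) = orderOf g := HeightZero.orderOf_conj g h
  by_cases hd : p ∣ orderOf g
  · rw [reg_of_dvd _ hd, reg_of_dvd _ (by rwa [ho])]
  · rw [reg_of_not_dvd _ hd, reg_of_not_dvd _ (by rwa [ho]), hF]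

theorem classInner_reg [Fintype H] (p : ℕ) (F F' : H → ℂ) :
    classInner (reg p F) F' = classInner F (reg p F') := by
  rw [Core.classInner_def, Core.classInner_def]
  congr 1
  refine Finset.sum_congr rfl fun n _ => ?_
  by_cases h : p ∣ orderOf n
  · simp [reg_of_dvd _ h]
  · simp [reg_of_not_dvd _ h]

/-- weak block orthogonality -/
theorem classInner_reg_eq_zero [Fintype H] {p : ℕ} [Fact p.Prime] {M : Ideal AlgInt}
    (hM : IsPModular p M) (χ ψ : IrrCharacter H)
    (h : ¬ SameBlock M (χ : H → ℂ) (ψ : H → ℂ)) :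
    classInner (reg p (χ : H → ℂ)) (ψ : H → ℂ) = 0 := by
  classical
  have h1 := S0952.result p M hM χ ψ h
  rw [finsum_mem_def, finsum_eq_sum_of_fintype] at h1
  rw [Core.classInner_def]
  have h2 : ∑ g : H, reg p (χ : H → ℂ) g * conj ((ψ : H → ℂ) g) = 0 := by
    refine Eq.trans (Finset.sum_congr rfl fun g _ => ?_) h1
    by_cases hd : p ∣ orderOf g
    · rw [reg_of_dvd _ hd, zero_mul, Set.indicator_of_notMem (by simpa using hd)]
    · rw [reg_of_not_dvd _ hd, Set.indicator_of_mem (by simpa using hd)]
  rw [h2, mul_zero]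

end reg

variable {G : Type*} [Group G] [Fintype G] (N : Subgroup G) [hN : N.Normal] [Fintype N]

/-- The irreducible characters of `N` lying under some member of `B`. -/
def under (B : Set (IrrCharacter G)) : Set (IrrCharacter N) :=
  {θ | ∃ χ ∈ B, classInner (fun n : N => (χ : G → ℂ) n) (θ : N → ℂ) ≠ 0}

/-- `G`-invariant functions on `N` -/
def Inv (F : N → ℂ) : Prop :=
  ∀ (g : G) (n : N), F ⟨g * n * g⁻¹, hN.conj_mem n n.2 g⟩ = F n

variable {N}

theorem Inv.isClassFunction {F : N → ℂ} (hF : Inv N F) : IsClassFunction N F := by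
  intro g h
  exact hF (h : G) g

theorem Inv.add {F F' : N → ℂ} (hF : Inv N F) (hF' : Inv N F') : Inv N (F + F') := by
  intro g n
  rw [Pi.add_apply, Pi.add_apply, hF g n, hF' g n]

theorem orderOf_conj' (g : G) (n : N) :
    orderOf (⟨g * n * g⁻¹, hN.conj_mem n n.2 g⟩ : N) = orderOf n := by
  rw [← Subgroup.orderOf_coe, ← Subgroup.orderOf_coe]
  exact HeightZero.orderOf_conj (n : G) g

theorem Inv.reg {p : ℕ} {F : N → ℂ} (hF : Inv N F) : Inv N (reg p F) := by
  intro g n
  by_cases h : p ∣ orderOf n
  · rw [reg_of_dvd _ h, reg_of_dvd _ (by rwa [orderOf_conj'])]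
  · rw [reg_of_not_dvd _ h, reg_of_not_dvd _ (by rwa [orderOf_conj']), hF g n]

theorem Inv.inv {F : N → ℂ} (hF : Inv N F) : Inv N (fun n => F n⁻¹) := by
  intro g n
  have h1 : (⟨g * n * g⁻¹, hN.conj_mem n n.2 g⟩ : N)⁻¹ =
      ⟨g * (n⁻¹ : N) * g⁻¹, hN.conj_mem _ (n⁻¹).2 g⟩ := by
    apply Subtype.ext
    simp [mul_assoc]
  simp only
  rw [h1, hF g n⁻¹]

/-- For `G`-invariant `F`, scalar products with `θ` and with `χ` over `θ` are proportional. -/
theorem classInner_div_eq {F : N → ℂ} (hF : Inv N F) {χ : IrrCharacter G} {θ : IrrCharacter N}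
    (h : classInner (fun n : N => (χ : G → ℂ) n) (θ : N → ℂ) ≠ 0) :
    classInner F (fun n : N => (χ : G → ℂ) n) / (χ : G → ℂ) 1 =
      classInner F (θ : N → ℂ) / (θ : N → ℂ) 1 := by
  have h1 := CliffordCentral.sum_div_eq_of_constituent N χ θ h (fun n => F n⁻¹) hF.inv
  have h2 : ∀ φ : N → ℂ, (∀ n, φ n⁻¹ = conj (φ n)) →
      classInner F φ = (Nat.card N : ℂ)⁻¹ * ∑ n : N, F n⁻¹ * φ n := by
    intro φ hφ
    rw [Core.classInner_def]
    congr 1
    refine Fintype.sum_equiv (Equiv.inv N) _ _ fun n => ?_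
    simp only [Equiv.inv_apply, inv_inv]
    rw [hφ]
  rw [h2 (fun n : N => (χ : G → ℂ) n), h2 (θ : N → ℂ), mul_div_assoc, mul_div_assoc, h1]
  · exact fun n => Core.isCharacter_apply_inv (Core.isIrr_isCharacter θ.2) n
  · intro n
    simp only [Subgroup.coe_inv]
    exact Core.isCharacter_apply_inv (Core.isIrr_isCharacter χ.2) (n : G)

theorem restrict_isClassFunction (χ : IrrCharacter G) :
    IsClassFunction N (fun n : N => (χ : G → ℂ) n) :=
  Core.isCharacter_isClassFunction
    (Core.isCharacter_comp N.subtype (Core.isIrr_isCharacter χ.2))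

/-- Lemma 1. -/
theorem reg_orthogonal {p : ℕ} [Fact p.Prime] {M : Ideal AlgInt} (hM : IsPModular p M)
    {B : Set (IrrCharacter G)} (hB : IsPBlock M B) {F : N → ℂ} (hF : Inv N F)
    (h0 : ∀ ψ ∈ under N B, classInner F (ψ : N → ℂ) = 0) :
    ∀ ψ ∈ under N B, classInner (reg p F) (ψ : N → ℂ) = 0 := by
  classical
  have hMp : M.IsPrime := Local.isPrime_of_isPModular hM
  have hfin : Finite (IrrCharacter G) := Core.finite_irr
  have : Fintype (IrrCharacter G) := Fintype.ofFinite _
  have hfin' : Finite (IrrCharacter N) := Core.finite_irr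
  have : Fintype (IrrCharacter N) := Fintype.ofFinite _
  -- `F` is orthogonal to the restrictions of the members of `B`
  have h1 : ∀ χ ∈ B, classInner F (fun n : N => (χ : G → ℂ) n) = 0 := by
    intro χ hχ
    rw [Core.classInner_eq_sum hF.isClassFunction (restrict_isClassFunction χ)]
    refine Finset.sum_eq_zero fun ψ _ => ?_
    by_cases hc : classInner (fun n : N => (χ : G → ℂ) n) (ψ : N → ℂ) = 0
    · rw [hc, map_zero, mul_zero]
    · rw [h0 ψ ⟨χ, hχ, hc⟩, zero_mul]
  rintro ψ ⟨χ, hχ, hc⟩
  have h2 := classInner_div_eq (hF.reg (p := p)) hc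
  have h3 : classInner (reg p F) (fun n : N => (χ : G → ℂ) n) = 0 := by
    rw [classInner_reg]
    have h4 : reg p (fun n : N => (χ : G → ℂ) n) =
        ∑ χ' : IrrCharacter G, classInner (reg p (χ : G → ℂ)) (χ' : G → ℂ) •
          (fun n : N => (χ' : G → ℂ) n) := by
      funext n
      have h5 := congrFun (Core.classFunction_eq_sum
        (isClassFunction_reg p (Core.isIrr_isClassFunction χ.2))) (n : G)
      have h6 : reg p (fun n : N => (χ : G → ℂ) n) n = reg p (χ : G → ℂ) (n : G) := by
        have ho := Subgroup.orderOf_coe n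
        by_cases hd : p ∣ orderOf n
        · rw [reg_of_dvd _ hd, reg_of_dvd _ (by rwa [ho])]
        · rw [reg_of_not_dvd _ hd, reg_of_not_dvd _ (by rwa [ho])]
      rw [h6, h5]
      simp [Finset.sum_apply]
    rw [h4, Core.classInner_sum_right]
    refine Finset.sum_eq_zero fun χ' _ => ?_
    rw [Core.classInner_smul_right]
    by_cases hχ' : χ' ∈ B
    · rw [h1 χ' hχ', mul_zero]
    · rw [classInner_reg_eq_zero hM χ χ', map_zero, zero_mul]
      intro hs
      exact hχ' (Basic.isPBlock_mem_of_sameBlock hB hχ hs)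
  rw [h3, zero_div] at h2
  have h7 := HeightZero.irr_apply_one_ne_zero ψ
  rcases div_eq_zero_iff.1 h2.symm with h | h
  · exact h
  · exact absurd h h7

theorem conjIrr_mem_under {B : Set (IrrCharacter G)} (g : G) {θ : IrrCharacter N}
    (h : θ ∈ under N B) : CliffordCentral.conjIrr N g θ ∈ under N B := by
  obtain ⟨χ, hχ, hc⟩ := h
  refine ⟨χ, hχ, ?_⟩
  have h1 : classInner (fun n : N => (χ : G → ℂ) n)
      (CliffordCentral.conjIrr N g θ : N → ℂ) =
        classInner (fun n : N => (χ : G → ℂ) n) (θ : N → ℂ) := by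
    rw [Core.classInner_def, Core.classInner_def]
    congr 1
    refine Fintype.sum_equiv (MulAut.conjNormal g : MulAut N).toEquiv _ _ fun n => ?_
    have h2 : ((MulAut.conjNormal g : MulAut N).toEquiv n) =
        ⟨g * n * g⁻¹, hN.conj_mem n n.2 g⟩ := by
      apply Subtype.ext
      simp
    rw [h2, CliffordCentral.conjIrr_apply]
    simp only
    rw [Basic.irr_conj χ.2]
  rw [h1]
  exact hc

/-- The part of a function on a set of irreducible characters -/
noncomputable def part [Fintype (IrrCharacter N)] (A : Set (IrrCharacter N))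
    [DecidablePred (· ∈ A)] (F : N → ℂ) : N → ℂ :=
  ∑ θ : IrrCharacter N, (if θ ∈ A then classInner F (θ : N → ℂ) else 0) • (θ : N → ℂ)

omit [Fintype G] hN in
theorem classInner_part [Fintype (IrrCharacter N)] (A : Set (IrrCharacter N))
    [DecidablePred (· ∈ A)] (F : N → ℂ) (θ : IrrCharacter N) :
    classInner (part A F) (θ : N → ℂ) = if θ ∈ A then classInner F (θ : N → ℂ) else 0 := by
  unfold part
  rw [Core.classInner_sum_smul_irr]

omit [Fintype G] in
theorem classInner_conjIrr {F : N → ℂ} (hF : Inv N F) (g : G) (θ : IrrCharacter N) :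
    classInner F (CliffordCentral.conjIrr N g θ : N → ℂ) = classInner F (θ : N → ℂ) := by
  rw [Core.classInner_def, Core.classInner_def]
  congr 1
  refine Fintype.sum_equiv (MulAut.conjNormal g : MulAut N).toEquiv _ _ fun n => ?_
  have h2 : ((MulAut.conjNormal g : MulAut N).toEquiv n) =
      ⟨g * n * g⁻¹, hN.conj_mem n n.2 g⟩ := by
    apply Subtype.ext
    simp
  rw [h2, CliffordCentral.conjIrr_apply, hF g n]

/-- conjugation as a permutation of the irreducible characters of `N` -/
theorem conjIrr_conjIrr' (g h : G) (θ : IrrCharacter N) :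
    CliffordCentral.conjIrr N g (CliffordCentral.conjIrr N h θ) =
      CliffordCentral.conjIrr N (h * g) θ := by
  apply Subtype.ext
  funext n
  rw [CliffordCentral.conjIrr_apply, CliffordCentral.conjIrr_apply,
    CliffordCentral.conjIrr_apply]
  refine congrArg (θ : N → ℂ) (Subtype.ext ?_)
  simp [mul_assoc]

theorem inv_part [Fintype (IrrCharacter N)] {A : Set (IrrCharacter N)}
    [DecidablePred (· ∈ A)] (hA : ∀ (g : G) (θ : IrrCharacter N),
      CliffordCentral.conjIrr N g θ ∈ A ↔ θ ∈ A) {F : N → ℂ} (hF : Inv N F) :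
    Inv N (part A F) := by
  intro g n
  unfold part
  rw [Finset.sum_apply, Finset.sum_apply]
  let e : IrrCharacter N ≃ IrrCharacter N :=
    { toFun := fun θ => CliffordCentral.conjIrr N g θ
      invFun := fun θ => CliffordCentral.conjIrr N g⁻¹ θ
      left_inv := fun θ => by
        simp only
        rw [conjIrr_conjIrr', mul_inv_cancel, CliffordCentral.conjIrr_one]
      right_inv := fun θ => by
        simp only
        rw [conjIrr_conjIrr', inv_mul_cancel, CliffordCentral.conjIrr_one] }
  refine Fintype.sum_equiv e _ _ fun θ => ?_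
  show _ = ((if CliffordCentral.conjIrr N g θ ∈ A then
    classInner F (CliffordCentral.conjIrr N g θ : N → ℂ) else 0) •
      (CliffordCentral.conjIrr N g θ : N → ℂ)) n
  rw [Pi.smul_apply, Pi.smul_apply, CliffordCentral.conjIrr_apply, classInner_conjIrr hF]
  simp only [hA g θ]

/-- Lemma 2. -/
theorem reg_orthogonal' {p : ℕ} [Fact p.Prime] {M : Ideal AlgInt} (hM : IsPModular p M)
    {B : Set (IrrCharacter G)} (hB : IsPBlock M B) {F : N → ℂ} (hF : Inv N F)
    (h0 : ∀ ψ : IrrCharacter N, ψ ∉ under N B → classInner F (ψ : N → ℂ) = 0) :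
    ∀ ψ : IrrCharacter N, ψ ∉ under N B → classInner (reg p F) (ψ : N → ℂ) = 0 := by
  classical
  have hfin' : Finite (IrrCharacter N) := Core.finite_irr
  have : Fintype (IrrCharacter N) := Fintype.ofFinite _
  have hA : ∀ (g : G) (θ : IrrCharacter N),
      CliffordCentral.conjIrr N g θ ∈ (under N B)ᶜ ↔ θ ∈ (under N B)ᶜ := by
    intro g θ
    rw [Set.mem_compl_iff, Set.mem_compl_iff, not_iff_not]
    refine ⟨fun h => ?_, fun h => conjIrr_mem_under g h⟩
    have h1 := conjIrr_mem_under g⁻¹ h
    rwa [conjIrr_conjIrr', mul_inv_cancel, CliffordCentral.conjIrr_one] at h1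
  obtain ⟨K, hK⟩ : ∃ K, K = part (under N B)ᶜ (reg p F) := ⟨_, rfl⟩
  have hKinv : Inv N K := by rw [hK]; exact inv_part hA hF.reg
  have hK0 : ∀ ψ ∈ under N B, classInner K (ψ : N → ℂ) = 0 := by
    intro ψ hψ
    rw [hK, classInner_part, if_neg (by simpa using hψ)]
  have hK1 := reg_orthogonal (p := p) hM hB hKinv hK0
  have h1 : classInner (reg p F) K = 0 := by
    rw [classInner_reg, Core.classInner_eq_sum hF.isClassFunction hKinv.reg.isClassFunction]
    refine Finset.sum_eq_zero fun ψ _ => ?_
    by_cases hψ : ψ ∈ under N B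
    · rw [hK1 ψ hψ, map_zero, mul_zero]
    · rw [h0 ψ hψ, zero_mul]
  have h2 : classInner K K = 0 := by
    rw [← h1, Core.classInner_eq_sum hKinv.isClassFunction hKinv.isClassFunction,
      Core.classInner_eq_sum hF.reg.isClassFunction hKinv.isClassFunction]
    refine Finset.sum_congr rfl fun ψ _ => ?_
    by_cases hψ : ψ ∈ under N B
    · rw [hK0 ψ hψ, map_zero, mul_zero, mul_zero]
    · congr 1
      rw [hK, classInner_part, if_pos (by simpa using hψ)]
  have h3 := Core.classInner_self_eq_zero h2
  intro ψ hψ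
  have h4 : classInner K (ψ : N → ℂ) = classInner (reg p F) (ψ : N → ℂ) := by
    rw [hK, classInner_part, if_pos (by simpa using hψ)]
  rw [← h4, h3, Core.classInner_zero_left]

/-- `(reg F)_A = reg (F_A)` for `G`-invariant `F`. -/
theorem reg_part [Fintype (IrrCharacter N)] {p : ℕ} [Fact p.Prime] {M : Ideal AlgInt}
    (hM : IsPModular p M) {B : Set (IrrCharacter G)} (hB : IsPBlock M B)
    [DecidablePred (· ∈ under N B)] {F : N → ℂ} (hF : Inv N F) :
    reg p (part (under N B) F) = part (under N B) (reg p F) := by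
  classical
  have hA : ∀ (g : G) (θ : IrrCharacter N),
      CliffordCentral.conjIrr N g θ ∈ under N B ↔ θ ∈ under N B := by
    intro g θ
    refine ⟨fun h => ?_, fun h => conjIrr_mem_under g h⟩
    have h1 := conjIrr_mem_under g⁻¹ h
    rwa [conjIrr_conjIrr', mul_inv_cancel, CliffordCentral.conjIrr_one] at h1
  have hA' : ∀ (g : G) (θ : IrrCharacter N),
      CliffordCentral.conjIrr N g θ ∈ (under N B)ᶜ ↔ θ ∈ (under N B)ᶜ := by
    intro g θ
    rw [Set.mem_compl_iff, Set.mem_compl_iff, not_iff_not]
    exact hA g θ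
  have hsum : F = part (under N B) F + part (under N B)ᶜ F := by
    conv_lhs => rw [Core.classFunction_eq_sum hF.isClassFunction]
    unfold part
    rw [← Finset.sum_add_distrib]
    refine Finset.sum_congr rfl fun θ _ => ?_
    by_cases h : θ ∈ under N B
    · simp [h]
    · simp [h]
  have h1 := inv_part hA hF
  have h2 := inv_part hA' hF
  refine Core.classFunction_ext h1.reg.isClassFunction
    (inv_part hA hF.reg).isClassFunction ?_
  intro θ hθ
  have h3 := classInner_part (under N B) (reg p F) ⟨θ, hθ⟩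
  simp only at h3
  rw [h3]
  split_ifs with h
  · -- the complement part does not contribute
    have h4 := reg_orthogonal (p := p) hM hB h2 (fun ψ hψ => by
      rw [classInner_part, if_neg (by simpa using hψ)]) ⟨θ, hθ⟩ h
    have h5 : reg p F = reg p (part (under N B) F) + reg p (part (under N B)ᶜ F) := by
      rw [← reg_add, ← hsum]
    rw [h5, Core.classInner_add_left]
    simp only at h4
    rw [h4, add_zero]
  · exact reg_orthogonal' (p := p) hM hB h1 (fun ψ hψ => by
      rw [classInner_part, if_neg hψ]) ⟨θ, hθ⟩ h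

/-- The number of Sylow `p`-subgroups of `N` containing an element. -/
noncomputable def sylCount (p : ℕ) (n : N) : ℂ :=
  open Classical in ∑ P : Sylow p N, if n ∈ P then 1 else 0

theorem inv_sylCount (p : ℕ) [Fact p.Prime] : Inv N (sylCount p) := by
  classical
  intro g n
  unfold sylCount
  let φ : MulAut N := MulAut.conjNormal g
  have hφ : (⟨g * n * g⁻¹, hN.conj_mem n n.2 g⟩ : N) = φ • n := by
    apply Subtype.ext
    simp [φ]
  rw [hφ]
  refine Fintype.sum_equiv (MulAction.toPerm φ⁻¹) _ _ fun P => ?_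
  simp only [MulAction.toPerm_apply]
  have h1 : n ∈ φ⁻¹ • P ↔ φ • n ∈ P := by
    rw [← SetLike.mem_coe, ← SetLike.mem_coe]
    exact Set.mem_inv_smul_set_iff
  simp only [h1]

theorem reg_sylCount (p : ℕ) [hp : Fact p.Prime] (n : N) [Decidable (n = 1)] :
    reg p (sylCount p) n = if n = 1 then (Nat.card (Sylow p N) : ℂ) else 0 := by
  classical
  by_cases h1 : n = 1
  · rw [if_pos h1, h1, reg_of_not_dvd]
    · unfold sylCount
      rw [Finset.sum_congr rfl (fun P _ => if_pos (one_mem P)), Finset.sum_const,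
        Finset.card_univ, Fintype.card_eq_nat_card, nsmul_eq_mul, mul_one]
    · rw [orderOf_one]
      exact fun h => hp.out.one_lt.ne' (Nat.dvd_one.1 h)
  · rw [if_neg h1]
    by_cases hd : p ∣ orderOf n
    · rw [reg_of_dvd _ hd]
    · rw [reg_of_not_dvd _ hd]
      unfold sylCount
      refine Finset.sum_eq_zero fun P _ => ?_
      rw [if_neg]
      intro hn
      obtain ⟨k, hk⟩ := IsPGroup.iff_orderOf.1 P.isPGroup' ⟨n, hn⟩
      have hk' : orderOf n = p ^ k := by
        rw [← hk]
        exact (Subgroup.orderOf_mk n hn).symm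
      rcases Nat.eq_zero_or_pos k with rfl | hk0
      · rw [pow_zero, orderOf_eq_one_iff] at hk'
        exact h1 hk'
      · exact hd (hk' ▸ dvd_pow_self p hk0.ne')

/-- multiplicities -/
theorem classInner_sylCount {p : ℕ} [hp : Fact p.Prime] {M : Ideal AlgInt}
    (hM : IsPModular p M) (θ : IrrCharacter N) :
    MemLocalRing M (classInner (sylCount p) (θ : N → ℂ)) := by
  classical
  have hMp : M.IsPrime := Local.isPrime_of_isPModular hM
  have h1 : ∀ P : Sylow p N, ∃ m : ℕ,
      ∑ n : N, (if n ∈ P then (1 : ℂ) else 0) * conj ((θ : N → ℂ) n) =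
        ((p ^ (Nat.card N).factorization p : ℕ) : ℂ) * m := by
    intro P
    have hchar : IsCharacter (P : Subgroup N) (fun u : (P : Subgroup N) => (θ : N → ℂ) u) :=
      Core.isCharacter_comp (P : Subgroup N).subtype (Core.isIrr_isCharacter θ.2)
    obtain ⟨m, hm⟩ := Core.classInner_isNat (Core.isCharacter_one (G := (P : Subgroup N))) hchar
    refine ⟨m, ?_⟩
    rw [← P.card_eq_multiplicity, ← hm, Core.classInner_def]
    have hc : (Nat.card (P : Subgroup N) : ℂ) ≠ 0 := by exact_mod_cast Nat.card_pos.ne'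
    have h2 : ∑ n : N, (if n ∈ P then (1 : ℂ) else 0) * conj ((θ : N → ℂ) n) =
        ∑ u : (P : Subgroup N), conj ((θ : N → ℂ) u) := by
      have h3 : ∑ u : (P : Subgroup N), conj ((θ : N → ℂ) u) =
          ∑ n ∈ Finset.univ.filter (fun n : N => n ∈ P), conj ((θ : N → ℂ) n) := by
        refine (Finset.sum_subtype (Finset.univ.filter (fun n : N => n ∈ P))
          (p := fun n => n ∈ (P : Subgroup N)) ?_ (fun n => conj ((θ : N → ℂ) n))).symm
        intro n
        simp only [Finset.mem_filter, Finset.mem_univ, true_and]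
        exact Iff.rfl
      rw [h3, Finset.sum_filter]
      refine Finset.sum_congr rfl fun n _ => ?_
      split_ifs <;> simp
    rw [h2]
    have h4 : (Nat.card P : ℂ) = (Nat.card (P : Subgroup N) : ℂ) := rfl
    rw [h4, ← mul_assoc, mul_inv_cancel₀ hc, one_mul]
    simp
  choose m hm using h1
  have h2 : classInner (sylCount p) (θ : N → ℂ) =
      (((p ^ (Nat.card N).factorization p : ℕ) : ℂ) / (Nat.card N : ℂ)) *
        ((∑ P : Sylow p N, m P : ℕ) : ℂ) := by
    rw [Core.classInner_def]
    have h3 : ∑ n : N, sylCount p n * conj ((θ : N → ℂ) n) =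
        ∑ P : Sylow p N, ((p ^ (Nat.card N).factorization p : ℕ) : ℂ) * m P := by
      rw [← Finset.sum_congr rfl fun P _ => hm P, Finset.sum_comm]
      refine Finset.sum_congr rfl fun n _ => ?_
      unfold sylCount
      rw [Finset.sum_mul]
    rw [h3, ← Finset.mul_sum]
    push_cast
    ring
  rw [h2]
  exact Local.memLocalRing_mul (RegInner.memLocalRing_ratio hM _ Nat.card_pos.ne').1
    (Local.memLocalRing_natCast _)

/-- The idempotent coefficients of `under N B` are local integers. -/
theorem memLocalRing_blockCoeff_under {p : ℕ} [hp : Fact p.Prime] {M : Ideal AlgInt}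
    (hM : IsPModular p M) {B : Set (IrrCharacter G)} (hB : IsPBlock M B) (n : N) :
    MemLocalRing M (blockCoeff (under N B) n) := by
  classical
  have hMp : M.IsPrime := Local.isPrime_of_isPModular hM
  have hfin' : Finite (IrrCharacter N) := Core.finite_irr
  have : Fintype (IrrCharacter N) := Fintype.ofFinite _
  have h1 := reg_part (p := p) (N := N) hM hB (inv_sylCount p)
  have h2 := congrFun h1 n⁻¹
  have hs0 : (Nat.card (Sylow p N) : ℂ) ≠ 0 := by exact_mod_cast Nat.card_pos.ne'
  have h3 : part (under N B) (reg p (sylCount p)) n⁻¹ =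
      (Nat.card (Sylow p N) : ℂ) * blockCoeff (under N B) n := by
    unfold part
    rw [Finset.sum_apply, Osima.blockCoeff_eq_sum, Finset.mul_sum, Finset.mul_sum]
    refine Finset.sum_congr rfl fun θ _ => ?_
    have h4 : classInner (reg p (sylCount p)) (θ : N → ℂ) =
        (Nat.card N : ℂ)⁻¹ * ((Nat.card (Sylow p N) : ℂ) * (θ : N → ℂ) 1) := by
      rw [Core.classInner_def]
      congr 1
      rw [Finset.sum_eq_single (1 : N)]
      · rw [reg_sylCount, if_pos rfl]
        congr 1
        obtain ⟨k, -, hk⟩ := Core.isIrr_apply_one θ.2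
        rw [hk]
        simp
      · intro b _ hb
        rw [reg_sylCount, if_neg hb, zero_mul]
      · intro h; exact absurd (Finset.mem_univ _) h
    rw [Pi.smul_apply, smul_eq_mul, Core.isCharacter_apply_inv (Core.isIrr_isCharacter θ.2), h4]
    split_ifs <;> ring
  have h5 : MemLocalRing M (reg p (part (under N B) (sylCount p)) n⁻¹) := by
    by_cases hd : p ∣ orderOf n⁻¹
    · rw [reg_of_dvd _ hd]
      exact Local.memLocalRing_zero
    · rw [reg_of_not_dvd _ hd]
      unfold part
      rw [Finset.sum_apply]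
      refine Local.memLocalRing_sum fun θ _ => ?_
      rw [Pi.smul_apply, smul_eq_mul]
      refine Local.memLocalRing_mul ?_ (Local.memLocalRing_of_isIntegral
        (HeightZero.isIntegral_character (Core.isIrr_isCharacter θ.2) _))
      split_ifs
      · exact classInner_sylCount hM θ
      · exact Local.memLocalRing_zero
  rw [h2, h3] at h5
  have h6 : ¬ p ∣ Nat.card (Sylow p N) := not_dvd_card_sylow p N
  have h7 := Local.memLocalRing_mul (Local.memLocalRing_inv_natCast hM h6) h5
  rwa [← mul_assoc, inv_mul_cancel₀ hs0, one_mul] at h7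

/-- `under N B` is a union of blocks. -/
theorem blockOf_subset_under {p : ℕ} [hp : Fact p.Prime] {M : Ideal AlgInt}
    (hM : IsPModular p M) {B : Set (IrrCharacter G)} (hB : IsPBlock M B) {θ : IrrCharacter N}
    (hθ : θ ∈ under N B) : blockOf M (θ : N → ℂ) ⊆ under N B :=
  S0909.result p M hM (under N B) (memLocalRing_blockCoeff_under hM hB) θ hθ

end Cfsg.Agent.H590.CoverLies
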