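import Mathlib
import Cfsg.Prelude.Def_BlockRank
import Cfsg.Agent.Blocks.Basic
import Cfsg.Agent.Blocks.Local
import Cfsg.Agent.Lib.Cores
import Cfsg.Agent.S0938
import Cfsg.Agent.S0939
import Cfsg.Agent.Blocks.PrincipalSection
import Cfsg.Agent.Characters.Core
import Cfsg.Agent.Prune
set_option linter.all false
prune_inst 0x7f00000000000000000000000000000000000000000000000000000000000000000000000000000000000000000000000000000000000000000000000000000000000000000000000000000000000000003fffffffffffffffffffffffffffbeffbdffffffff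
open scoped Cfsg.Agent.FastGrp

/-!
# Principal blocks of rank one

`exists_index`: if the principal `p`-block has `p`-regular rank one, then the group has a normal
`p`-complement. Conversely `blockRank_eq_one`.
-/

set_option autoImplicit false

namespace Cfsg.Agent.H590.RankOne

open Cfsg Cfsg.Agent Cfsg.Agent.Blocks

variable {M : Ideal AlgInt} {p : ℕ} [hp : Fact p.Prime]

theorem exists_index_of_regular {H : Type*} [Group H] [Finite H]
    (h : ∀ g : H, ¬ p ∣ orderOf g → g ∈ pPrimeCore p H) :
    ∃ k : ℕ, (pPrimeCore p H).index = p ^ k := by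
  have h1 : ∀ q : ℕ, q.Prime → q ∣ (pPrimeCore p H).index → q = p := by
    intro q hq hd
    by_contra hne
    have hqf : Fact q.Prime := ⟨hq⟩
    obtain ⟨Q⟩ : Nonempty (Sylow q H) := inferInstance
    have h2 : (Q : Subgroup H) ≤ pPrimeCore p H := by
      intro g hg
      apply h
      intro hd'
      obtain ⟨k, hk⟩ := Q.2 ⟨g, hg⟩
      have h3 : g ^ q ^ k = 1 := congrArg Subtype.val hk
      have h4 : orderOf g ∣ q ^ k := orderOf_dvd_of_pow_eq_one h3
      exact hne ((Nat.prime_dvd_prime_iff_eq hp.out hq).1
        (hp.out.dvd_of_dvd_pow (hd'.trans h4))).symm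
    exact Q.not_dvd_index (hd.trans (Subgroup.index_dvd_of_le h2))
  exact ⟨_, Nat.eq_prime_pow_of_unique_prime_dvd Subgroup.index_ne_zero_of_finite
    (fun {q} hq hd => h1 q hq hd)⟩

theorem exists_index (hM : IsPModular p M) {H : Type*} [Group H] [Finite H]
    (h : blockRank p (principalBlock M H) = 1) : ∃ k : ℕ, (pPrimeCore p H).index = p ^ k := by
  have hprime := Local.isPrime_of_isPModular hM
  let one : IrrCharacter H := ⟨fun _ => 1, Basic.isIrrCharacter_one⟩
  have hone : one ∈ principalBlock M H := Basic.mem_blockOf_self (M := M) one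
  have hreg1 : IsPRegular p (1 : H) := by
    change ¬ p ∣ orderOf (1 : H)
    rw [orderOf_one]
    exact hp.out.one_lt.ne' ∘ Nat.dvd_one.1
  have key : ∀ χ ∈ principalBlock M H, ∀ g : H, ¬ p ∣ orderOf g →
      (χ : H → ℂ) g = (χ : H → ℂ) 1 := by
    intro χ hχ g hg
    unfold blockRank at h
    set V := Submodule.span ℂ ((fun χ : IrrCharacter H => pRegularPart p (χ : H → ℂ)) ''
      principalBlock M H) with hV
    have hv : pRegularPart p (one : H → ℂ) ∈ V := Submodule.subset_span ⟨one, hone, rfl⟩
    have hw : pRegularPart p (χ : H → ℂ) ∈ V := Submodule.subset_span ⟨χ, hχ, rfl⟩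
    have hv0 : (⟨pRegularPart p (one : H → ℂ), hv⟩ : V) ≠ 0 := by
      intro h0
      have h1 : pRegularPart p (one : H → ℂ) 1 = 0 := congrFun (congrArg Subtype.val h0) 1
      unfold pRegularPart at h1
      rw [if_pos hreg1] at h1
      exact one_ne_zero h1
    obtain ⟨c, hc⟩ := (finrank_eq_one_iff_of_nonzero' _ hv0).1 h ⟨_, hw⟩
    have hc' : c • pRegularPart p (one : H → ℂ) = pRegularPart p (χ : H → ℂ) :=
      congrArg Subtype.val hc
    have h2 : ∀ x : H, ¬ p ∣ orderOf x → (χ : H → ℂ) x = c := by
      intro x hx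
      have h3 := congrFun hc' x
      unfold pRegularPart at h3
      rw [Pi.smul_apply, if_pos (show IsPRegular p x from hx),
        if_pos (show IsPRegular p x from hx)] at h3
      rw [← h3, smul_eq_mul]
      exact mul_one c
    rw [h2 g hg, h2 1 hreg1]
  obtain ⟨K, hK, hKe, hKp, -, -⟩ := S0938.result p M hM (principalBlock M H) ⟨one, rfl⟩ one hone
  apply exists_index_of_regular
  intro g hg
  have h1 : K ≤ pPrimeCore p H :=
    Lib.Cores.le_pPrimeCore hK ((Nat.Prime.coprime_iff_not_dvd hp.out).2 hKp).symm
  apply h1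
  have h2 : g ∈ (K : Set H) := by
    rw [hKe]
    intro ψ hψ
    exact key ψ hψ g hg
  exact h2

/-- The rank of the principal block is positive. -/
theorem blockRank_pos (hM : IsPModular p M) (H : Type*) [Group H] [Finite H] :
    0 < blockRank p (principalBlock M H) := by
  have hprime := Local.isPrime_of_isPModular hM
  have hfirr := Characters.Core.finite_irr (G := H)
  let one : IrrCharacter H := ⟨fun _ => 1, Basic.isIrrCharacter_one⟩
  have hone : one ∈ principalBlock M H := Basic.mem_blockOf_self (M := M) one
  have hreg1 : IsPRegular p (1 : H) := by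
    change ¬ p ∣ orderOf (1 : H)
    rw [orderOf_one]
    exact hp.out.one_lt.ne' ∘ Nat.dvd_one.1
  unfold blockRank
  set V := Submodule.span ℂ ((fun χ : IrrCharacter H => pRegularPart p (χ : H → ℂ)) ''
    principalBlock M H) with hV
  have hfin : FiniteDimensional ℂ V := FiniteDimensional.span_of_finite ℂ (Set.toFinite _)
  have hv : pRegularPart p (one : H → ℂ) ∈ V := Submodule.subset_span ⟨one, hone, rfl⟩
  have hnt : Nontrivial V := by
    refine ⟨⟨pRegularPart p (one : H → ℂ), hv⟩, 0, ?_⟩
    intro h0
    have h1 : pRegularPart p (one : H → ℂ) 1 = 0 := congrFun (congrArg Subtype.val h0) 1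
    unfold pRegularPart at h1
    rw [if_pos hreg1] at h1
    exact one_ne_zero h1
  exact Module.finrank_pos

/-- The rank of the principal block of a group with a normal `p`-complement. -/
theorem blockRank_eq_one (hM : IsPModular p M) {H : Type*} [Group H] [Finite H]
    (h : ∃ k : ℕ, (pPrimeCore p H).index = p ^ k) : blockRank p (principalBlock M H) = 1 := by
  apply le_antisymm _ (blockRank_pos hM H)
  let one : IrrCharacter H := ⟨fun _ => 1, Basic.isIrrCharacter_one⟩
  have hle : Submodule.span ℂ ((fun χ : IrrCharacter H => pRegularPart p (χ : H → ℂ)) ''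
      principalBlock M H) ≤ Submodule.span ℂ {pRegularPart p (one : H → ℂ)} := by
    rw [Submodule.span_le]
    rintro _ ⟨χ, hχ, rfl⟩
    rw [SetLike.mem_coe, Submodule.mem_span_singleton]
    refine ⟨(χ : H → ℂ) 1, ?_⟩
    have h1 := hχ
    rw [S0939.result p M hM h] at h1
    funext g
    change (χ : H → ℂ) 1 * pRegularPart p (one : H → ℂ) g = pRegularPart p (χ : H → ℂ) g
    unfold pRegularPart
    by_cases hg : IsPRegular p g
    · rw [if_pos hg, if_pos hg]
      have h2 : g ∈ pPrimeCore p H := PrincipalSection.mem_pPrimeCore_of_regular h hg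
      rw [h1 g h2]
      exact mul_one _
    · rw [if_neg hg, if_neg hg, mul_zero]
  unfold blockRank
  exact (Submodule.finrank_mono hle).trans ((finrank_span_le_card _).trans (by simp))

end Cfsg.Agent.H590.RankOne
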