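import Mathlib
import Cfsg.Agent.H590.OddPrincipal
import Cfsg.Agent.Walter.LastCase_mg_m3
import Cfsg.Agent.S0914
import Cfsg.Agent.S2300
import Cfsg.Agent.Blocks.KleinSylow
import Cfsg.Agent.Blocks.SectionCount
import Cfsg.Agent.PLocal.PConstrained
import Cfsg.Agent.SignalizersComponents.SLQuasisimple
import Cfsg.Agent.FastGrp
import Cfsg.Agent.Prune
set_option linter.all false
prune_inst 0x7f00000000000000000000000000000000000000000000000000000000000000000000000000000000000000000000000000000000000000000000000000000000000000000000000000000000000000003fffffffffdfffffffffffffffffbeffbdffffffff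
open scoped Cfsg.Agent.FastGrp

-- part: H590/OddEven
section
/-!
# The principal 2-block of `PSL(2, 2^n)`

`degree_of_mem`: the characters in the principal 2-block have degree `1`, `q - 1` or `q + 1`.
-/

set_option autoImplicit false

namespace Cfsg.Agent.H590.OddEven

open Cfsg Cfsg.Agent Cfsg.Agent.Blocks Cfsg.Agent.H590.OddPrincipal

variable {M : Ideal AlgInt}

/-- The degrees of the irreducible characters of `PSL(2, q)`, `q` even. -/
theorem degree_cases {K : Type*} [Group K] {F : Type*} [Field F] [Fintype F]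
    [CharP F 2] (e : K ≃* Matrix.ProjectiveSpecialLinearGroup (Fin 2) F) {χ : K → ℂ}
    (hχ : IsIrrCharacter K χ) :
    χ 1 = 1 ∨ χ 1 = (Fintype.card F : ℂ) - 1 ∨ χ 1 = (Fintype.card F : ℂ) ∨
      χ 1 = (Fintype.card F : ℂ) + 1 := by
  let π : Matrix.SpecialLinearGroup (Fin 2) F →* K :=
    e.symm.toMonoidHom.comp (QuotientGroup.mk' (Subgroup.center _))
  have hπ : Function.Surjective π :=
    e.symm.surjective.comp (QuotientGroup.mk'_surjective _)
  have h1 := (S2300.result (F := F)).1 (χ ∘ π) (Characters.Core.isIrr_comp π hπ hχ)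
  simp only [Function.comp_apply, map_one] at h1
  exact h1

/-- The degrees in the principal 2-block. -/
theorem degree_of_mem (hM : IsPModular 2 M) {K : Type*} [Group K] [Finite K] {F : Type*} [Field F]
    [Fintype F] {n : ℕ} (hn : 1 ≤ n) (hF : Fintype.card F = 2 ^ n)
    (e : K ≃* Matrix.ProjectiveSpecialLinearGroup (Fin 2) F) {χ : IrrCharacter K}
    (hχ : χ ∈ principalBlock M K) :
    charDegree (χ : K → ℂ) = 1 ∨ charDegree (χ : K → ℂ) = 2 ^ n - 1 ∨
      charDegree (χ : K → ℂ) = 2 ^ n + 1 := by
  have hprime := Local.isPrime_of_isPModular hM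
  have : Fact (Nat.Prime 2) := ⟨Nat.prime_two⟩
  have hchar : CharP F 2 := charP_of_card_eq_prime_pow hF
  have h1 := degree_cases e χ.2
  rw [Basic.irr_one_eq_charDegree χ.2, hF] at h1
  have hpos : 1 ≤ 2 ^ n := Nat.one_le_two_pow
  rcases h1 with h | h | h | h
  · left
    exact_mod_cast h
  · right; left
    have : ((2 ^ n - 1 : ℕ) : ℂ) = ((2 ^ n : ℕ) : ℂ) - 1 := by
      rw [Nat.cast_sub hpos, Nat.cast_one]
    rw [← this] at h
    exact_mod_cast h
  · exfalso
    have h2 : charDegree (χ : K → ℂ) = 2 ^ n := by exact_mod_cast h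
    obtain ⟨S⟩ : Nonempty (Sylow 2 K) := inferInstance
    have hS := Walter.TypeSylow.card_sylow_even hF e S
    have h3 : ¬ 2 ∣ Nat.card K / charDegree (χ : K → ℂ) := by
      have h4 := (S : Subgroup K).card_mul_index
      rw [h2, ← h4, hS, Nat.mul_div_cancel_left _ (by positivity)]
      exact S.not_dvd_index
    have h4 := (S0914.result 2 M hM χ).1 h3
    have h5 : one K ∈ blockOf M (χ : K → ℂ) := by
      rw [Basic.mem_blockOf]
      exact Basic.sameBlock_symm hχ
    rw [h4, Set.mem_singleton_iff] at h5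
    have h6 : charDegree (χ : K → ℂ) = 1 := by
      apply Basic.charDegree_of_eq
      rw [← h5, Nat.cast_one]
      rfl
    rw [h2] at h6
    have : 2 ^ 1 ≤ 2 ^ n := Nat.pow_le_pow_right (by norm_num) hn
    omega
  · right; right
    exact_mod_cast h

theorem allOdd_of_isEvenType (hM : IsPModular 2 M) {K : Type*} [Group K] [Finite K]
    (h : Walter.Types.IsEvenType K) : AllOdd M K := by
  obtain ⟨F, i1, i2, n, hn, hF, ⟨e⟩⟩ := h
  intro χ hχ
  have h1 := degree_of_mem hM (by omega) hF e hχ
  have h2 : Even (2 ^ n) := (even_two).pow_of_ne_zero (by omega)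
  have h3 : 1 ≤ 2 ^ n := Nat.one_le_two_pow
  rcases h1 with h | h | h <;> rw [h]
  · exact odd_one
  · exact Nat.Even.sub_odd h3 h2 odd_one
  · exact h2.add_one

end Cfsg.Agent.H590.OddEven
end

-- part: H590/OddMain
section
/-!
# The degrees in the principal 2-block, abelian Sylow 2-subgroups, an involution with a 2-nilpotent
centralizer

`allOdd`: all the degrees are odd. The input is the theorem on simple groups with abelian Sylow
2-subgroups, in the form of the hypothesis `Walter.Main.Step`.
-/

set_option autoImplicit false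

namespace Cfsg.Agent.H590.OddMain

open Cfsg Cfsg.Agent Cfsg.Agent.Blocks Cfsg.Agent.H590.OddPrincipal
open Cfsg.Agent.SignalizersComponents
open Cfsg.Agent.SignalizersComponents.Components

universe u

variable {M : Ideal AlgInt}

/-- the elements of odd order of a subgroup are closed under multiplication -/
def Nilp {G : Type*} [Group G] (H : Subgroup G) : Prop :=
  ∀ a ∈ H, ∀ b ∈ H, Odd (orderOf a) → Odd (orderOf b) → Odd (orderOf (a * b))

theorem odd_iff {n : ℕ} : Odd n ↔ ¬ 2 ∣ n := by
  rw [← Nat.not_even_iff_odd, even_iff_two_dvd]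

theorem Nilp.of_index {G : Type*} [Group G] [Finite G] {H : Subgroup G}
    (h : ∃ k : ℕ, (pPrimeCore 2 H).index = 2 ^ k) : Nilp H := by
  have : Fact (Nat.Prime 2) := ⟨Nat.prime_two⟩
  intro a ha b hb h1 h2
  have h3 := SectionCount.mem_pPrimeCore_iff 2 h
  have h4 : (⟨a, ha⟩ : H) ∈ pPrimeCore 2 H := by
    rw [h3, Subgroup.orderOf_mk, ← odd_iff]
    exact h1
  have h5 : (⟨b, hb⟩ : H) ∈ pPrimeCore 2 H := by
    rw [h3, Subgroup.orderOf_mk, ← odd_iff]
    exact h2
  have h6 := mul_mem h4 h5
  rw [h3, ← odd_iff] at h6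
  exact (Subgroup.orderOf_mk (a * b) (mul_mem ha hb)) ▸ h6

theorem exists_odd_lift {G X : Type*} [Group G] [Finite G] [Group X] (π : G →* X) {g : G}
    (hg : Odd (orderOf (π g))) : ∃ k : ℕ, Odd (orderOf (g ^ k)) ∧ π (g ^ k) = π g := by
  have hpos := orderOf_pos g
  obtain ⟨a, m, hm, he⟩ := Nat.exists_eq_two_pow_mul_odd hpos.ne'
  have hcop : Nat.Coprime (2 ^ a) (orderOf (π g)) :=
    Nat.Coprime.pow_left a ((Nat.coprime_two_left).2 hg)
  obtain ⟨k, hk1, hk2⟩ := Nat.chineseRemainder hcop 0 1
  refine ⟨k, ?_, ?_⟩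
  · have h1 : 2 ^ a ∣ k := (Nat.modEq_zero_iff_dvd).1 hk1
    have h2 : (g ^ k) ^ m = 1 := by
      obtain ⟨c, rfl⟩ := h1
      rw [← pow_mul, mul_right_comm, ← he, pow_mul, pow_orderOf_eq_one, one_pow]
    exact Odd.of_dvd_nat hm (orderOf_dvd_of_pow_eq_one h2)
  · rw [map_pow]
    conv_rhs => rw [← pow_one (π g)]
    exact pow_eq_pow_iff_modEq.2 hk2

theorem Nilp.map {G X : Type*} [Group G] [Finite G] [Group X] (π : G →* X) {H : Subgroup G}
    (h : Nilp H) : Nilp (H.map π) := by
  rintro _ ⟨a, ha, rfl⟩ _ ⟨b, hb, rfl⟩ h1 h2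
  obtain ⟨k, hk, hk'⟩ := exists_odd_lift π h1
  obtain ⟨l, hl, hl'⟩ := exists_odd_lift π h2
  have h3 := h _ (pow_mem ha k) _ (pow_mem hb l) hk hl
  rw [← hk', ← hl', ← map_mul]
  exact Odd.of_dvd_nat h3 (orderOf_map_dvd π _)

/-- A non-abelian simple group of even order is not 2-nilpotent. -/
theorem not_nilp_of_simple {L : Type*} [Group L] [Finite L] [IsSimpleGroup L]
    (hna : ¬ IsMulCommutative L) (h2 : 2 ∣ Nat.card L)
    (h : ∀ a b : L, Odd (orderOf a) → Odd (orderOf b) → Odd (orderOf (a * b))) : False := by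
  have : Fact (Nat.Prime 2) := ⟨Nat.prime_two⟩
  let R : Subgroup L :=
    { carrier := {a | Odd (orderOf a)}
      mul_mem' := fun {a b} ha hb => h a b ha hb
      one_mem' := by
        change Odd (orderOf (1 : L))
        rw [orderOf_one]
        exact odd_one
      inv_mem' := fun {a} ha => by
        change Odd (orderOf a⁻¹)
        rw [orderOf_inv]
        exact ha }
  have hR : R.Normal := by
    refine ⟨fun a ha g => ?_⟩
    change Odd (orderOf (g * a * g⁻¹))
    have h1 : orderOf (g * a * g⁻¹) = orderOf a := by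
      rw [← MulAut.conj_apply]
      exact MulEquiv.orderOf_eq _ a
    rw [h1]
    exact ha
  rcases hR.eq_bot_or_eq_top with h1 | h1
  · apply hna
    have hp : IsPGroup 2 L := by
      rw [IsPGroup.iff_card]
      have h3 : ∀ q : ℕ, q.Prime → q ∣ Nat.card L → q = 2 := by
        intro q hq hd
        have : Fact q.Prime := ⟨hq⟩
        obtain ⟨x, hx⟩ := exists_prime_orderOf_dvd_card' q hd
        by_contra hne
        have h4 : x ∈ R := by
          change Odd (orderOf x)
          rw [hx]
          exact hq.odd_of_ne_two hne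
        rw [h1, Subgroup.mem_bot] at h4
        rw [h4, orderOf_one] at hx
        exact hq.one_lt.ne hx
      exact ⟨_, Nat.eq_prime_pow_of_unique_prime_dvd Nat.card_pos.ne' (fun {q} hq hd => h3 q hq hd)⟩
    have hcen := hp.center_nontrivial
    rcases (inferInstance : (Subgroup.center L).Normal).eq_bot_or_eq_top with h3 | h3
    · rw [h3] at hcen
      exact absurd hcen (not_nontrivial _)
    · refine ⟨⟨fun a b => ?_⟩⟩
      have : a ∈ Subgroup.center L := by rw [h3]; trivial
      exact ((Subgroup.mem_center_iff.1 this) b).symm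
  · obtain ⟨x, hx⟩ := exists_prime_orderOf_dvd_card' 2 h2
    have h3 : x ∈ R := by rw [h1]; trivial
    have h4 : Odd (orderOf x) := h3
    rw [hx] at h4
    exact absurd h4 (by decide)

/-- `PSL(2, q)`, `q ≥ 5` odd, is not 2-nilpotent. -/
theorem not_nilp_psl {F : Type*} [Field F] [Fintype F] (h35 : Fintype.card F % 8 = 3 ∨
    Fintype.card F % 8 = 5) (h5 : 5 ≤ Fintype.card F)
    (h : ∀ a b : Matrix.ProjectiveSpecialLinearGroup (Fin 2) F, Odd (orderOf a) →
      Odd (orderOf b) → Odd (orderOf (a * b))) : False := by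
  have hs : IsSimpleGroup (Matrix.ProjectiveSpecialLinearGroup (Fin 2) F) :=
    Matrix.ProjectiveSpecialLinearGroup.rank_two_simple (by
      rw [Nat.card_eq_fintype_card]
      omega)
  have hna : ¬ IsMulCommutative (Matrix.ProjectiveSpecialLinearGroup (Fin 2) F) := by
    intro hc
    have h1 := SL2Simple.PSL_commutator_eq_top (F := F)
      (SLQuasisimple.exists_sq_ne_one (F := F) (by rw [Nat.card_eq_fintype_card]; omega))
    have h2 : commutator (Matrix.ProjectiveSpecialLinearGroup (Fin 2) F) = ⊥ := by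
      rw [commutator_eq_bot_iff_center_eq_top, eq_top_iff]
      intro x _
      rw [Subgroup.mem_center_iff]
      intro y
      exact hc.is_comm.comm y x
    rw [h1] at h2
    exact absurd h2 top_ne_bot
  have h2 : 2 ∣ Nat.card (Matrix.ProjectiveSpecialLinearGroup (Fin 2) F) := by
    obtain ⟨S⟩ : Nonempty (Sylow 2 (Matrix.ProjectiveSpecialLinearGroup (Fin 2) F)) := inferInstance
    have h3 := Walter.TypeSylow.card_sylow_odd h35 (MulEquiv.refl _) S
    have h4 := (S : Subgroup (Matrix.ProjectiveSpecialLinearGroup (Fin 2) F)).card_subgroup_dvd_card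
    rw [h3] at h4
    exact dvd_trans (by norm_num) h4
  exact not_nilp_of_simple hna h2 h

/-- Simple groups with Sylow 2-subgroups of order 4. -/
theorem allOdd_of_card_four (hM : IsPModular 2 M) {K : Type*} [Group K] [Finite K]
    [IsSimpleGroup K] (hna : ¬ IsMulCommutative K) (P : Sylow 2 K)
    (hP : Nat.card (P : Subgroup K) = 4) : AllOdd M K := by
  have hfact : Fact (Nat.Prime 2) := ⟨Nat.prime_two⟩
  have hcomm : ∀ x ∈ (P : Subgroup K), ∀ y ∈ (P : Subgroup K), x * y = y * x := by
    have h1 : ∀ a b : (P : Subgroup K), a * b = b * a := by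
      have := IsPGroup.isMulCommutative_of_card_eq_prime_sq (p := 2) (G := (P : Subgroup K))
        (by rw [hP]; norm_num)
      exact fun a b => this.is_comm.comm a b
    intro x hx y hy
    exact congrArg Subtype.val (h1 ⟨x, hx⟩ ⟨y, hy⟩)
  have hna' : ∃ a b : K, a * b ≠ b * a := by
    by_contra hcon
    push Not at hcon
    exact hna ⟨⟨hcon⟩⟩
  obtain ⟨z', hz'⟩ : ∃ z : (P : Subgroup K), orderOf z = 2 :=
    exists_prime_orderOf_dvd_card' 2 (by rw [hP]; norm_num)
  obtain ⟨z, hz, hz2⟩ : ∃ z ∈ (P : Subgroup K), orderOf z = 2 :=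
    ⟨z', z'.2, by rw [Subgroup.orderOf_coe]; exact hz'⟩
  obtain ⟨n, hn, hne⟩ := Walter.TypeFacts.exists_conj_ne hna' P hcomm hz hz2
  have hw : n * z * n⁻¹ ∈ (P : Subgroup K) := (Subgroup.mem_normalizer_iff.1 hn z).1 hz
  have hw2 : orderOf (n * z * n⁻¹) = 2 := by
    rw [← MulAut.conj_apply, MulEquiv.orderOf_eq, hz2]
  set w := n * z * n⁻¹ with hwdef
  have hz1 : z ≠ 1 := by
    rintro rfl
    simp at hz2
  have hw1 : w ≠ 1 := by
    intro h
    rw [h, orderOf_one] at hw2
    omega
  have hzz : z * z = 1 := by rw [← pow_two, ← hz2, pow_orderOf_eq_one]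
  have hww : w * w = 1 := by rw [← pow_two, ← hw2, pow_orderOf_eq_one]
  have hall : ∀ x : (P : Subgroup K), x = 1 ∨ x = ⟨z, hz⟩ ∨ x = ⟨w, hw⟩ ∨
      x = ⟨z * w, mul_mem hz hw⟩ := by
    classical
    have := Fintype.ofFinite (P : Subgroup K)
    have h1 : ({1, ⟨z, hz⟩, ⟨w, hw⟩, ⟨z * w, mul_mem hz hw⟩} : Finset (P : Subgroup K)) =
        Finset.univ := by
      rw [← Finset.card_eq_iff_eq_univ, ← Nat.card_eq_fintype_card, hP]
      have hzw1 : z * w ≠ 1 := by
        intro h
        apply hne
        calc w = z * z * w := by rw [hzz, one_mul]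
          _ = z * (z * w) := by group
          _ = z := by rw [h, mul_one]
      rw [Finset.card_insert_of_notMem, Finset.card_insert_of_notMem,
        Finset.card_insert_of_notMem, Finset.card_singleton]
      · rw [Finset.mem_singleton]
        intro h
        have h2 : w = z * w := congrArg Subtype.val h
        exact hz1 (mul_eq_right.1 h2.symm)
      · rw [Finset.mem_insert, Finset.mem_singleton, not_or]
        constructor
        · intro h
          exact hne (congrArg Subtype.val h).symm
        · intro h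
          have h2 : z = z * w := congrArg Subtype.val h
          exact hw1 (mul_eq_left.1 h2.symm)
      · rw [Finset.mem_insert, Finset.mem_insert, Finset.mem_singleton, not_or, not_or]
        refine ⟨?_, ?_, ?_⟩
        · intro h
          exact hz1 (congrArg Subtype.val h).symm
        · intro h
          exact hw1 (congrArg Subtype.val h).symm
        · intro h
          exact hzw1 (congrArg Subtype.val h).symm
    intro x
    have h2 : x ∈ (Finset.univ : Finset (P : Subgroup K)) := Finset.mem_univ _
    rw [← h1] at h2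
    simpa using h2
  have hsq : ∀ x ∈ (P : Subgroup K), x * x = 1 := by
    intro x hx
    rcases hall ⟨x, hx⟩ with h | h | h | h
    · rw [show x = 1 from congrArg Subtype.val h, one_mul]
    · rw [show x = z from congrArg Subtype.val h, hzz]
    · rw [show x = w from congrArg Subtype.val h, hww]
    · rw [show x = z * w from congrArg Subtype.val h]
      calc z * w * (z * w) = z * (w * z) * w := by group
        _ = z * (z * w) * w := by rw [hcomm w hw z hz]
        _ = (z * z) * (w * w) := by group
        _ = 1 := by rw [hzz, hww, one_mul]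
  have hle : (P : Subgroup K) ≤ Subgroup.centralizer ({z} : Set K) := by
    intro x hx
    rw [Subgroup.mem_centralizer_singleton_iff]
    exact hcomm x hx z hz
  have hQcard : Nat.card ((P.subtype hle : Sylow 2 (Subgroup.centralizer ({z} : Set K))) :
      Subgroup (Subgroup.centralizer ({z} : Set K))) = 4 := by
    rw [Sylow.coe_subtype, ← hP]
    exact Nat.card_congr (Subgroup.subgroupOfEquivOfLe hle).toEquiv
  have hQ : IsKleinFour ((P.subtype hle : Sylow 2 (Subgroup.centralizer ({z} : Set K))) :
      Subgroup (Subgroup.centralizer ({z} : Set K))) := by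
    refine ⟨hQcard, ?_⟩
    have h3 : Monoid.exponent ((P.subtype hle : Sylow 2 (Subgroup.centralizer ({z} : Set K))) :
      Subgroup (Subgroup.centralizer ({z} : Set K))) ∣ 2 := by
      rw [Monoid.exponent_dvd_iff_forall_pow_eq_one]
      rintro ⟨x, hx⟩
      rw [Sylow.coe_subtype, Subgroup.mem_subgroupOf] at hx
      apply Subtype.ext
      apply Subtype.ext
      change (x : K) ^ 2 = 1
      rw [pow_two]
      exact hsq _ hx
    rcases (Nat.dvd_prime Nat.prime_two).1 h3 with h4 | h4
    · exfalso
      rw [Monoid.exp_eq_one_iff] at h4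
      have := Nat.card_of_subsingleton
        (1 : ((P.subtype hle : Sylow 2 (Subgroup.centralizer ({z} : Set K))) :
          Subgroup (Subgroup.centralizer ({z} : Set K))))
      omega
    · exact h4
  have hfac : (Nat.card (Subgroup.centralizer ({z} : Set K))).factorization 2 = 2 := by
    have h5 := (P.subtype hle : Sylow 2 (Subgroup.centralizer ({z} : Set K))).card_eq_multiplicity
    rw [hQcard, show (4 : ℕ) = 2 ^ 2 from rfl] at h5
    exact (Nat.pow_right_injective (le_refl 2) h5).symm
  refine allOdd_of_four hM hz2 ?_ hfac ?_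
  · intro h
    exact P.not_dvd_index (h.trans (Subgroup.index_dvd_of_le hle))
  · refine KleinSylow.exists_index_pPrimeCore (P.subtype hle) hQ ⟨z, ?_⟩ ?_ ?_ ?_
    · rw [Subgroup.mem_centralizer_singleton_iff]
    · rw [Subgroup.mem_center_iff]
      intro y
      apply Subtype.ext
      exact Subgroup.mem_centralizer_singleton_iff.1 y.2
    · rw [Sylow.coe_subtype, Subgroup.mem_subgroupOf]
      exact hz
    · rw [Subgroup.orderOf_mk]
      exact hz2

section Component

variable {X : Type u} [Group X] [Finite X] {S : Sylow 2 X} {K : Subgroup X}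

/-- The possible components of `X` in the presence of an involution with a 2-nilpotent
centralizer. -/
theorem component_cases (hstep : Walter.Main.Step.{u}) (hO : pPrimeCore 2 X = ⊥)
    (hS : ∀ a ∈ (S : Subgroup X), ∀ b ∈ (S : Subgroup X), a * b = b * a) {x : X}
    (hx : x ∈ (S : Subgroup X)) (hx2 : orderOf x = 2)
    (hnil : Nilp (Subgroup.centralizer ({x} : Set X))) (hK : IsComponent K) :
    Walter.Types.IsEvenType K ∨ Walter.Types.IsOddType K := by
  have hsimple := Walter.AbStruct.isSimpleGroup hO hS hK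
  have hna := Walter.AbStruct.not_comm hK
  have h2 := Walter.AbStruct.two_dvd_card hO hK
  obtain ⟨P, hP⟩ := Walter.AbStruct.exists_sylow S hK
  have hPc : ∀ a ∈ (P : Subgroup K), ∀ b ∈ (P : Subgroup K), a * b = b * a := by
    rw [hP]
    exact Walter.AbStruct.comm_subgroupOf hS
  have hW := Walter.Main.wType_of_step hstep K hsimple hna P hPc
  rcases hW with h | h | h
  · exact Or.inl h
  · exact Or.inr h
  · exfalso
    obtain ⟨k, hk, c, hc, hkc⟩ := Walter.AbStruct.exists_inner hO hS hK hx
    have hcK : ∀ y ∈ K, c * y = y * c := fun y hy =>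
      ((Subgroup.mem_centralizer_iff.1 hc.2) y hy).symm
    have hcent : ∀ y ∈ K, y * k = k * y → y ∈ Subgroup.centralizer ({x} : Set X) := by
      intro y hy h1
      rw [Subgroup.mem_centralizer_singleton_iff, hkc, ← mul_assoc, h1, mul_assoc, ← hcK y hy,
        mul_assoc]
    by_cases hk1 : k = 1
    · apply not_nilp_of_simple hna h2
      intro a b ha hb
      have h3 := hnil a (hcent a a.2 (by rw [hk1, mul_one, one_mul])) b
        (hcent b b.2 (by rw [hk1, mul_one, one_mul])) (by rw [Subgroup.orderOf_coe]; exact ha)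
        (by rw [Subgroup.orderOf_coe]; exact hb)
      rw [← Subgroup.coe_mul, Subgroup.orderOf_coe] at h3
      exact h3
    · have hk2 : k * k = 1 := by
        have h3 : k * k ∈ K ⊓ Subgroup.centralizer (K : Set X) := by
          refine ⟨mul_mem hk.2 hk.2, ?_⟩
          have h4 : (k * c) * (k * c) = 1 := by
            rw [← hkc, ← pow_two, ← hx2, pow_orderOf_eq_one]
          have h5 : k * k = (c * c)⁻¹ := by
            rw [eq_inv_iff_mul_eq_one]
            calc k * k * (c * c) = k * (k * c) * c := by group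
              _ = k * (c * k) * c := by rw [hcK k hk.2]
              _ = (k * c) * (k * c) := by group
              _ = 1 := h4
          rw [h5]
          exact Subgroup.inv_mem _ (Subgroup.mul_mem _ hc.2 hc.2)
        rw [Walter.AbStruct.inf_centralizer hO hS hK, Subgroup.mem_bot] at h3
        exact h3
      have hko : orderOf (⟨k, hk.2⟩ : K) = 2 := by
        rw [Subgroup.orderOf_mk]
        exact orderOf_eq_prime (by rw [pow_two]; exact hk2) hk1
      obtain ⟨-, F, i1, i2, h35, h5, hcen⟩ := h
      obtain ⟨e⟩ := hcen ⟨k, hk.2⟩ hko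
      apply not_nilp_psl h35 h5
      intro a b ha hb
      have key : ∀ y : Subgroup.centralizer ({(⟨k, hk.2⟩ : K)} : Set K),
          (((y : K) : X)) ∈ Subgroup.centralizer ({x} : Set X) := by
        intro y
        apply hcent _ (y : K).2
        have h3 := Subgroup.mem_centralizer_singleton_iff.1 y.2
        exact congrArg Subtype.val h3
      have hord : ∀ z : Matrix.ProjectiveSpecialLinearGroup (Fin 2) F,
          orderOf (((e.symm (1, z) : Subgroup.centralizer ({(⟨k, hk.2⟩ : K)} : Set K)) : K) : X) =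
            orderOf z := by
        intro z
        rw [Subgroup.orderOf_coe, Subgroup.orderOf_coe, MulEquiv.orderOf_eq, Prod.orderOf_mk,
          orderOf_one, Nat.lcm_one_left]
      have h3 := hnil _ (key (e.symm (1, a))) _ (key (e.symm (1, b))) (by rw [hord]; exact ha)
        (by rw [hord]; exact hb)
      have h4 : (((e.symm (1, a) : Subgroup.centralizer ({(⟨k, hk.2⟩ : K)} : Set K)) : K) : X) *
          (((e.symm (1, b) : Subgroup.centralizer ({(⟨k, hk.2⟩ : K)} : Set K)) : K) : X) =
          (((e.symm (1, a * b) : Subgroup.centralizer ({(⟨k, hk.2⟩ : K)} : Set K)) : K) : X) := by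
        rw [← Subgroup.coe_mul, ← Subgroup.coe_mul, ← map_mul, Prod.mk_mul_mk, one_mul]
      rw [h4, hord] at h3
      exact h3

theorem allOdd_component (hM : IsPModular 2 M) (hstep : Walter.Main.Step.{u})
    (hO : pPrimeCore 2 X = ⊥)
    (hS : ∀ a ∈ (S : Subgroup X), ∀ b ∈ (S : Subgroup X), a * b = b * a) {x : X}
    (hx : x ∈ (S : Subgroup X)) (hx2 : orderOf x = 2)
    (hnil : Nilp (Subgroup.centralizer ({x} : Set X))) (hK : IsComponent K) : AllOdd M K := by
  rcases component_cases hstep hO hS hx hx2 hnil hK with h | h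
  · exact OddEven.allOdd_of_isEvenType hM h
  · have hsimple := Walter.AbStruct.isSimpleGroup hO hS hK
    have hna := Walter.AbStruct.not_comm hK
    obtain ⟨P⟩ : Nonempty (Sylow 2 K) := inferInstance
    obtain ⟨F, i1, i2, h35, h5, ⟨e⟩⟩ := h
    exact allOdd_of_card_four hM hna P (Walter.TypeSylow.card_sylow_odd h35 e P)

theorem allOdd_finset (hM : IsPModular 2 M) (hstep : Walter.Main.Step.{u})
    (hO : pPrimeCore 2 X = ⊥)
    (hS : ∀ a ∈ (S : Subgroup X), ∀ b ∈ (S : Subgroup X), a * b = b * a) {x : X}
    (hx : x ∈ (S : Subgroup X)) (hx2 : orderOf x = 2)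
    (hnil : Nilp (Subgroup.centralizer ({x} : Set X)))
    (T : Finset {K : Subgroup X // IsComponent K}) :
    AllOdd M ↥(pCore 2 X ⊔ T.sup (fun K => K.1)) := by
  classical
  induction T using Finset.induction_on with
  | empty =>
    rw [Finset.sup_empty, sup_bot_eq]
    apply allOdd_of_comm
    intro a b
    have h1 := Lib.Cores.pCore_le_sylow (G := X) S
    exact Subtype.ext (hS a (h1 a.2) b (h1 b.2))
  | insert K T hKT ih =>
    rw [Finset.sup_insert, sup_comm K.1, ← sup_assoc]
    have hc : pCore 2 X ⊔ T.sup (fun K => K.1) ≤ Subgroup.centralizer (K.1 : Set X) := by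
      refine sup_le ?_ (Finset.sup_le ?_)
      · have h1 := Walter.AbStruct.pCore_le_centralizer_layer hO
        exact h1.trans (Subgroup.centralizer_le (component_le_layer K.2))
      · intro L hL
        have hne : L.1 ≠ K.1 := by
          intro h
          exact hKT ((Subtype.ext h : L = K) ▸ hL)
        have h1 := Cfsg.Agent.S1270.component_comm_of_ne L.2 K.2 hne
        rw [Subgroup.commutator_eq_bot_iff_le_centralizer] at h1
        exact h1
    refine AllOdd.sup hM hc ?_ ih (allOdd_component hM hstep hO hS hx hx2 hnil K.2)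
    rw [eq_bot_iff, ← Walter.AbStruct.inf_centralizer hO hS K.2]
    exact le_inf inf_le_right (inf_le_left.trans hc)

/-- The case of a trivial core. -/
theorem allOdd_of_core (hM : IsPModular 2 M) (hstep : Walter.Main.Step.{u})
    (hO : pPrimeCore 2 X = ⊥)
    (hS : ∀ a ∈ (S : Subgroup X), ∀ b ∈ (S : Subgroup X), a * b = b * a) {x : X}
    (hx : x ∈ (S : Subgroup X)) (hx2 : orderOf x = 2)
    (hnil : Nilp (Subgroup.centralizer ({x} : Set X))) : AllOdd M X := by
  classical
  have := Fintype.ofFinite {K : Subgroup X // IsComponent K}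
  have h1 := allOdd_finset hM hstep hO hS hx hx2 hnil Finset.univ
  have h2 : (Finset.univ : Finset {K : Subgroup X // IsComponent K}).sup (fun K => K.1) =
      layer X := by
    apply le_antisymm
    · exact Finset.sup_le fun K _ => component_le_layer K.2
    · rw [layer_le_iff]
      intro K hK
      exact Finset.le_sup (f := fun K : {K : Subgroup X // IsComponent K} => K.1)
        (Finset.mem_univ (⟨K, hK⟩ : {K : Subgroup X // IsComponent K}))
  rw [h2, ← Walter.AbStruct.genFitting_eq hO] at h1
  have h3 : (generalizedFittingSubgroup X).Normal := TwoFusion.FStarControl.genFitting_normal X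
  exact AllOdd.of_normal hM _ (Walter.AbStruct.odd_index hO hS) h1

end Component

/-- **All degrees in the principal 2-block are odd** when the Sylow 2-subgroups are abelian and
some involution has a 2-nilpotent centralizer. -/
theorem allOdd (hM : IsPModular 2 M) (hstep : Walter.Main.Step.{u}) {G : Type u} [Group G]
    [Finite G] (P : Sylow 2 G)
    (hP : ∀ a ∈ (P : Subgroup G), ∀ b ∈ (P : Subgroup G), a * b = b * a) {x : G}
    (hx2 : orderOf x = 2)
    (hnil : ∃ k : ℕ, (pPrimeCore 2 (Subgroup.centralizer ({x} : Set G))).index = 2 ^ k) :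
    AllOdd M G := by
  have hfact : Fact (Nat.Prime 2) := ⟨Nat.prime_two⟩
  let π : G →* G ⧸ pPrimeCore 2 G := QuotientGroup.mk' (pPrimeCore 2 G)
  have hπ : Function.Surjective π := QuotientGroup.mk'_surjective _
  have hker : Nat.Coprime (Nat.card π.ker) 2 := by
    rw [QuotientGroup.ker_mk']
    exact Lib.Cores.pPrimeCore_coprime 2
  have hodd : Odd (Nat.card π.ker) := (Nat.coprime_two_right).1 hker
  refine AllOdd.of_surjective hM hπ hodd ?_
  have hO : pPrimeCore 2 (G ⧸ pPrimeCore 2 G) = ⊥ := Lib.Cores.pPrimeCore_quotient_pPrimeCore 2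
  have hX2 : orderOf (π x) = 2 := by
    apply orderOf_eq_prime
    · have h1 : x ^ 2 = 1 := orderOf_dvd_iff_pow_eq_one.1 (by rw [hx2])
      rw [← map_pow, h1, map_one]
    · intro h
      have h1 : x ∈ π.ker := h
      have h2 := Subgroup.orderOf_dvd_natCard π.ker h1
      rw [hx2] at h2
      exact odd_iff.1 hodd h2
  have hz : IsPGroup 2 (Subgroup.zpowers (π x)) := by
    rw [IsPGroup.iff_card]
    exact ⟨1, by rw [Nat.card_zpowers, hX2, pow_one]⟩
  obtain ⟨S, hS⟩ := hz.exists_le_sylow
  refine allOdd_of_core hM hstep hO (S := S) (Walter.TypeSylow.comm_of_surjective hP hπ S)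
    (hS (Subgroup.mem_zpowers _)) hX2 ?_
  have hz' : IsPGroup 2 (Subgroup.zpowers x) := by
    rw [IsPGroup.iff_card]
    exact ⟨1, by rw [Nat.card_zpowers, hx2, pow_one]⟩
  have h1 := PLocal.PConstrained.map_centralizer_eq π hπ hker hz'
  rw [MonoidHom.map_zpowers] at h1
  have h2 : ∀ {Y : Type u} [Group Y] (y : Y), Subgroup.centralizer ((Subgroup.zpowers y : Subgroup Y) : Set Y) =
      Subgroup.centralizer ({y} : Set Y) := by
    intro Y _ y
    rw [Subgroup.zpowers_eq_closure, Subgroup.centralizer_closure]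
  rw [h2, h2] at h1
  rw [← h1]
  exact (Nilp.of_index hnil).map π

end Cfsg.Agent.H590.OddMain
end

-- part: H590/OddCount
section
/-!
# The number of characters in the principal 2-block

Abelian Sylow 2-subgroup `P`, some involution with a 2-nilpotent centralizer: `k(B₀) ≤ |P|` and
`k(B₀) ≡ |P| mod 8`.
-/

set_option autoImplicit false

namespace Cfsg.Agent.H590.OddCount

open Cfsg Cfsg.Agent Cfsg.Agent.Blocks Cfsg.Agent.H590.OddPrincipal

universe u

variable {M : Ideal AlgInt}

theorem factorization_centralizer {p : ℕ} [hp : Fact p.Prime] {G : Type*} [Group G] [Finite G]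
    (P : Sylow p G)
    (hP : ∀ a ∈ (P : Subgroup G), ∀ b ∈ (P : Subgroup G), a * b = b * a) {x : G}
    (hx : ∃ k : ℕ, orderOf x = p ^ k) :
    p ^ (Nat.card (Subgroup.centralizer ({x} : Set G))).factorization p =
      Nat.card (P : Subgroup G) := by
  have hz : IsPGroup p (Subgroup.zpowers x) := by
    rw [IsPGroup.iff_card]
    obtain ⟨k, hk⟩ := hx
    exact ⟨k, by rw [Nat.card_zpowers, hk]⟩
  obtain ⟨S, hS⟩ := hz.exists_le_sylow
  obtain ⟨g, hg⟩ := MulAction.exists_smul_eq G P S
  have hScomm : ∀ a ∈ (S : Subgroup G), ∀ b ∈ (S : Subgroup G), a * b = b * a := by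
    rw [← hg]
    intro a ha b hb
    rw [Sylow.coe_subgroup_smul, Subgroup.mem_pointwise_smul_iff_inv_smul_mem] at ha hb
    have h1 := hP _ ha _ hb
    rw [← smul_mul', ← smul_mul'] at h1
    exact smul_left_cancel _ h1
  have hle : (S : Subgroup G) ≤ Subgroup.centralizer ({x} : Set G) := by
    intro y hy
    rw [Subgroup.mem_centralizer_singleton_iff]
    exact hScomm y hy x (hS (Subgroup.mem_zpowers x))
  have h1 := (S.subtype hle : Sylow p (Subgroup.centralizer ({x} : Set G))).card_eq_multiplicity
  rw [← h1, Sylow.coe_subtype, Nat.card_congr (Subgroup.subgroupOfEquivOfLe hle).toEquiv,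
    S.card_eq_multiplicity, P.card_eq_multiplicity]

theorem sq_mod_eight {a : ℤ} (h : ¬ (2 : ℤ) ∣ a) : (8 : ℤ) ∣ a ^ 2 - 1 := by
  have h1 : a % 8 = 1 ∨ a % 8 = 3 ∨ a % 8 = 5 ∨ a % 8 = 7 := by omega
  apply Int.dvd_of_emod_eq_zero
  rcases h1 with h | h | h | h <;> simp [Int.sub_emod, pow_two, Int.mul_emod, h]

theorem card_principal (hM : IsPModular 2 M) (hstep : Walter.Main.Step.{u}) {G : Type u}
    [Group G] [Finite G] (P : Sylow 2 G)
    (hP : ∀ a ∈ (P : Subgroup G), ∀ b ∈ (P : Subgroup G), a * b = b * a) {x : G}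
    (hx2 : orderOf x = 2)
    (hnil : ∃ k : ℕ, (pPrimeCore 2 (Subgroup.centralizer ({x} : Set G))).index = 2 ^ k) :
    Nat.card (principalBlock M G) ≤ Nat.card (P : Subgroup G) ∧
      (8 : ℤ) ∣ (Nat.card (P : Subgroup G) : ℤ) - Nat.card (principalBlock M G) := by
  classical
  have := Characters.Core.finite_irr (G := G)
  have := Fintype.ofFinite (IrrCharacter G)
  have hfact : Fact (Nat.Prime 2) := ⟨Nat.prime_two⟩
  obtain ⟨a, ha, hsum⟩ := exists_column hM hx2 hnil
  have hodd := OddMain.allOdd hM hstep P hP hx2 hnil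
  have hcard : (2 : ℤ) ^ (Nat.card (Subgroup.centralizer ({x} : Set G))).factorization 2 =
      Nat.card (P : Subgroup G) := by
    rw [← factorization_centralizer P hP ⟨1, by rw [hx2, pow_one]⟩]
    push_cast
    rfl
  rw [hcard] at hsum
  have hodd' : ∀ χ ∈ principalBlock M G, ¬ (2 : ℤ) ∣ a χ := by
    intro χ hχ h
    have h1 := (ha χ).2
    have h2 := hodd χ hχ
    have h3 : (2 : ℤ) ∣ (charDegree (χ : G → ℂ) : ℤ) := by
      have := dvd_add h1 h
      rwa [sub_add_cancel] at this
    rw [← Nat.not_even_iff_odd, even_iff_two_dvd] at h2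
    exact h2 (by exact_mod_cast h3)
  have hB : (Nat.card (principalBlock M G) : ℤ) =
      ∑ χ : IrrCharacter G with χ ∈ principalBlock M G, 1 := by
    rw [Finset.sum_const, nsmul_eq_mul, mul_one, Nat.card_eq_fintype_card, Fintype.card_subtype]
  constructor
  · have h1 : (Nat.card (principalBlock M G) : ℤ) ≤ Nat.card (P : Subgroup G) := by
      rw [hB, ← hsum]
      apply Finset.sum_le_sum
      intro χ hχ
      have h2 := hodd' χ (Finset.mem_filter.1 hχ).2
      have h3 : a χ ≠ 0 := by
        intro h4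
        exact h2 (h4 ▸ dvd_zero _)
      have h4 : 0 < a χ ^ 2 := by positivity
      linarith
    exact_mod_cast h1
  · rw [hB, ← hsum, ← Finset.sum_sub_distrib]
    exact Finset.dvd_sum fun χ hχ => sq_mod_eight (hodd' χ (Finset.mem_filter.1 hχ).2)

end Cfsg.Agent.H590.OddCount
end
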